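import Groth.Prelude.Def_W4bk4bump814p2PDiff
import Mathlib

/-!
# The filtration `Σ^i` of Kähler differentials is a submodule

The defect of additivity of `x ↦ x^(p^i-1) dx` is computed with Witt addition.
-/

universe u v

open W4bk4bump814p2 MvPolynomial

namespace GrothLib.PDiff19

/-- Differentiating the ghost components of `[X 0] + [X 1]`. -/
theorem exists_witt_identity (p : ℕ) [hp : Fact p.Prime] (i : ℕ) :
    ∃ S : ℕ → MvPolynomial (Fin 2) ℤ, S 0 = X 0 + X 1 ∧ ∀ v : Fin 2,
      ∑ j ∈ Finset.range (i + 1), S j ^ (p ^ (i - j) - 1) * pderiv v (S j) =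
        (X v : MvPolynomial (Fin 2) ℤ) ^ (p ^ i - 1) := by
  let w : WittVector p (MvPolynomial (Fin 2) ℤ) :=
    WittVector.teichmuller p (X 0) + WittVector.teichmuller p (X 1)
  refine ⟨w.coeff, ?_, fun v => ?_⟩
  · simp [w, WittVector.add_coeff_zero]
  have hg : (∑ j ∈ Finset.range (i + 1), (p : MvPolynomial (Fin 2) ℤ) ^ j * w.coeff j ^ p ^ (i - j)) =
      X 0 ^ p ^ i + X 1 ^ p ^ i := by
    rw [← WittVector.ghostComponent_teichmuller p (X 0) i, ← WittVector.ghostComponent_teichmuller p (X 1) i,
      ← map_add, WittVector.ghostComponent_apply, aeval_wittPolynomial]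
  have hd := congrArg (pderiv v) hg
  rw [map_sum, map_add, pderiv_pow, pderiv_pow] at hd
  have hterm : ∀ j ∈ Finset.range (i + 1),
      pderiv v ((p : MvPolynomial (Fin 2) ℤ) ^ j * w.coeff j ^ p ^ (i - j)) =
        (p : MvPolynomial (Fin 2) ℤ) ^ i * (w.coeff j ^ (p ^ (i - j) - 1) * pderiv v (w.coeff j)) := by
    intro j hj
    have hji : j ≤ i := Nat.le_of_lt_succ (Finset.mem_range.1 hj)
    rw [pderiv_mul, pderiv_pow, pderiv_pow, Derivation.map_natCast, mul_zero, zero_mul, zero_add, Nat.cast_pow]
    rw [show (p : MvPolynomial (Fin 2) ℤ) ^ i = p ^ j * p ^ (i - j) by rw [← pow_add, Nat.add_sub_cancel' hji]]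
    ring
  rw [Finset.sum_congr rfl hterm, ← Finset.mul_sum, Nat.cast_pow] at hd
  refine mul_left_cancel₀ (pow_ne_zero i (Nat.cast_ne_zero.2 hp.out.ne_zero)) (hd.trans ?_)
  fin_cases v <;> simp [pderiv_X, Pi.single_apply]

variable (K : Type u) (A : Type v) [Field K] (p : ℕ) [hp : Fact p.Prime] [CharP K p]
  [CommRing A] [Algebra K A]

theorem D_aeval (a : Fin 2 → A) (f : MvPolynomial (Fin 2) ℤ) :
    KaehlerDifferential.D K A (aeval a f) =
      ∑ v, aeval a (pderiv v f) • KaehlerDifferential.D K A (a v) := by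
  induction f using MvPolynomial.induction_on with
  | C n => simp
  | add f g hf hg => simp only [map_add, hf, hg, add_smul, Finset.sum_add_distrib]
  | mul_X f w hf =>
    rw [map_mul, Derivation.leibniz, hf, aeval_X]
    simp only [pderiv_mul, map_add, map_mul, aeval_X, add_smul, Finset.sum_add_distrib, Finset.smul_sum,
      smul_smul, mul_comm (a w)]
    rw [add_comm]
    congr 1
    rw [Finset.sum_eq_single w (fun v _ hv => by simp [pderiv_X_of_ne (Ne.symm hv)]) (by simp)]
    simp

theorem delta_add_eq (i : ℕ) : ∃ S : ℕ → MvPolynomial (Fin 2) ℤ, ∀ x y : A,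
    delta K A p i (x + y) + ∑ j ∈ Finset.range i, delta K A p (i - (j + 1)) (aeval ![x, y] (S j)) =
      delta K A p i x + delta K A p i y := by
  obtain ⟨S, h0, hS⟩ := exists_witt_identity p i
  refine ⟨fun j => S (j + 1), fun x y => ?_⟩
  have key : ∑ j ∈ Finset.range (i + 1), delta K A p (i - j) (aeval ![x, y] (S j)) =
      delta K A p i x + delta K A p i y := by
    have h1 : ∀ j, delta K A p (i - j) (aeval ![x, y] (S j)) =
        ∑ v, aeval ![x, y] (S j ^ (p ^ (i - j) - 1) * pderiv v (S j)) • KaehlerDifferential.D K A (![x, y] v) := by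
      intro j
      simp only [delta, D_aeval K A, Finset.smul_sum, smul_smul, map_mul, map_pow]
    rw [Finset.sum_congr rfl fun j _ => h1 j, Finset.sum_comm]
    simp_rw [← Finset.sum_smul, ← map_sum, hS]
    simp [delta, Fin.sum_univ_two]
  rw [Finset.sum_range_succ', Nat.sub_zero, h0, map_add, aeval_X, aeval_X] at key
  rw [add_comm]
  exact key

omit hp in
theorem delta_smul (i : ℕ) (c : K) (x : A) (hi : 0 < p ^ i) :
    delta K A p i (c • x) = c ^ p ^ i • delta K A p i x := by
  simp only [delta]
  rw [Derivation.map_smul, smul_pow, smul_comm (c ^ (p ^ i - 1) • x ^ (p ^ i - 1)) c, smul_assoc, smul_smul,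
    ← pow_succ', Nat.sub_add_cancel hi]

theorem delta_pow_mul (k m : ℕ) (hm : 0 < m) (x y : A) :
    delta K A p k (x ^ p ^ m * y) = x ^ p ^ (k + m) • delta K A p k y := by
  haveI : CharP A p ∨ Subsingleton A := by
    rcases subsingleton_or_nontrivial A with h | h
    · exact Or.inr h
    · exact Or.inl (charP_of_injective_algebraMap (algebraMap K A).injective p)
  have hD : KaehlerDifferential.D K A (x ^ p ^ m) = 0 := by
    rw [Derivation.leibniz_pow, ← Nat.cast_smul_eq_nsmul K, Nat.cast_pow, CharP.cast_eq_zero K p,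
      zero_pow hm.ne', zero_smul]
  simp only [delta, Derivation.leibniz, hD, smul_zero, add_zero, smul_smul]
  congr 1
  rw [mul_pow, ← pow_mul, show p ^ (k + m) = p ^ m * (p ^ k - 1) + p ^ m by
    rw [← Nat.mul_succ, Nat.succ_eq_add_one, Nat.sub_add_cancel (Nat.one_le_pow _ _ hp.out.pos), ← pow_add, add_comm],
    pow_add]
  ring

variable [PerfectField K]

theorem delta_smul_mem_range (i : ℕ) (c : K) (x : A) : ∃ z, c • delta K A p i x = delta K A p i z := by
  haveI := ExpChar.prime (R := K) hp.out
  haveI : PerfectRing K p := PerfectField.toPerfectRing p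
  obtain ⟨d, hd⟩ := (bijective_iterateFrobenius (R := K) (p := p) (n := i)).2 c
  refine ⟨d • x, ?_⟩
  rw [delta_smul K A p i d x (pow_pos hp.out.pos i), ← hd, iterateFrobenius_def]

/-- `Σ^i` is the additive subgroup generated by the images of `δ_j`, `j < i`. -/
theorem sigma_eq_closure (i : ℕ) :
    sigma K A p i = (AddSubgroup.closure (⋃ j ∈ Finset.range i, Set.range (delta K A p j)) : Set (Ω[A⁄K])) := by
  induction i using Nat.strong_induction_on with
  | _ i ih =>
    cases i with
    | zero => simp
    | succ i =>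
      let T : ℕ → AddSubgroup (Ω[A⁄K]) := fun n =>
        AddSubgroup.closure (⋃ j ∈ Finset.range n, Set.range (delta K A p j))
      have hT : ∀ ω, ω ∈ sigma K A p i ↔ ω ∈ T i := fun ω => by rw [ih i (Nat.lt_succ_self i)]; rfl
      have hsub : T i ≤ T (i + 1) := AddSubgroup.closure_mono
        (Set.biUnion_subset_biUnion_left fun j hj => Finset.mem_range.2 (Nat.lt_succ_of_lt (Finset.mem_range.1 hj)))
      have hgen : ∀ j < i, ∀ z, delta K A p j z ∈ T i := fun j hj z =>
        AddSubgroup.subset_closure (Set.mem_biUnion (Finset.mem_range.2 hj) ⟨z, rfl⟩)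
      ext ω
      rw [mem_sigma_succ]
      refine ⟨fun ⟨x, hx⟩ => ?_, fun hω => ?_⟩
      · have h1 := hsub ((hT _).1 hx)
        have h2 : delta K A p i x ∈ T (i + 1) :=
          AddSubgroup.subset_closure (Set.mem_biUnion (Finset.self_mem_range_succ i) ⟨x, rfl⟩)
        have := add_mem h1 h2
        rwa [sub_add_cancel] at this
      · induction hω using AddSubgroup.closure_induction with
        | mem ω hω =>
          simp only [Set.mem_iUnion, Set.mem_range, Finset.mem_range] at hω
          obtain ⟨j, hj, z, rfl⟩ := hω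
          rcases Nat.lt_succ_iff_lt_or_eq.1 hj with hj | rfl
          · exact ⟨0, (hT _).2 (by simpa [delta] using hgen j hj z)⟩
          · exact ⟨z, (hT _).2 (by simp)⟩
        | zero => exact ⟨0, (hT _).2 (by simp [delta])⟩
        | add a b _ _ ha hb =>
          obtain ⟨x, hx⟩ := ha
          obtain ⟨y, hy⟩ := hb
          obtain ⟨S, hS⟩ := delta_add_eq K A p i
          refine ⟨x + y, (hT _).2 ?_⟩
          have hsum : ∑ j ∈ Finset.range i, delta K A p (i - (j + 1)) (aeval ![x, y] (S j)) ∈ T i :=
            sum_mem fun j hj => hgen _ (by have := Finset.mem_range.1 hj; omega) _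
          have h1 := add_mem (add_mem ((hT _).1 hx) ((hT _).1 hy)) hsum
          convert h1 using 1
          rw [← sub_eq_zero, ← neg_eq_zero]
          rw [← sub_eq_zero.2 (hS x y)]
          abel
        | neg a _ ha =>
          obtain ⟨x, hx⟩ := ha
          obtain ⟨z, hz⟩ := delta_smul_mem_range K A p i (-1) x
          refine ⟨z, (hT _).2 ?_⟩
          have := neg_mem ((hT _).1 hx)
          rw [← hz, neg_one_smul]
          convert this using 1
          abel

theorem smul_mem_sigma (i : ℕ) (c : K) (ω : Ω[A⁄K]) (hω : ω ∈ sigma K A p i) :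
    c • ω ∈ sigma K A p i := by
  induction i generalizing ω with
  | zero => simp only [sigma_zero, Set.mem_singleton_iff] at hω ⊢; rw [hω, smul_zero]
  | succ i ih =>
    rw [mem_sigma_succ] at hω ⊢
    obtain ⟨x, hx⟩ := hω
    obtain ⟨z, hz⟩ := delta_smul_mem_range K A p i c x
    refine ⟨z, ?_⟩
    rw [← hz, ← smul_sub]
    exact ih _ hx

end GrothLib.PDiff19
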